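import Cfsg.Agent.H29.PJ.ChkDef

set_option autoImplicit false

namespace Cfsg.Agent.H29.PJ.Chk

open Cfsg.Agent.J2.HundredGens Cfsg.Agent.J2Sylow.SporSylow Cfsg.Agent.J2Sylow.Model Cfsg.Agent.SporadicA.PermTab
  Cfsg.Agent.H29.PJ.Data

theorem okK0 : allB (okK 0) 15 = true := by decide +kernel
theorem okK1 : allB (okK 1) 15 = true := by decide +kernel
theorem okK2 : allB (okK 2) 15 = true := by decide +kernel
theorem okK3 : allB (okK 3) 15 = true := by decide +kernel
theorem okK4 : allB (okK 4) 15 = true := by decide +kernel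
theorem okK5 : allB (okK 5) 15 = true := by decide +kernel
theorem okK6 : allB (okK 6) 15 = true := by decide +kernel
theorem okK7 : allB (okK 7) 15 = true := by decide +kernel
theorem okK8a : allB (okK 8) 4 = true := by decide +kernel
theorem okK8b : allB (fun j => okK 8 (4 + j)) 4 = true := by decide +kernel
theorem okK8c : allB (fun j => okK 8 (8 + j)) 4 = true := by decide +kernel
theorem okK8d : allB (fun j => okK 8 (12 + j)) 3 = true := by decide +kernel
theorem okK8 : allB (okK 8) 15 = true := by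
  refine (allB_iff _ _).2 fun j hj => ?_
  rcases Nat.lt_or_ge j 4 with h | h
  · exact (allB_iff _ _).1 okK8a j h
  rcases Nat.lt_or_ge j 8 with h' | h'
  · have e := (allB_iff _ _).1 okK8b (j - 4) (by omega)
    rwa [show 4 + (j - 4) = j by omega] at e
  rcases Nat.lt_or_ge j 12 with h'' | h''
  · have e := (allB_iff _ _).1 okK8c (j - 8) (by omega)
    rwa [show 8 + (j - 8) = j by omega] at e
  · have e := (allB_iff _ _).1 okK8d (j - 12) (by omega)
    rwa [show 12 + (j - 12) = j by omega] at e

theorem okK' (t j : ℕ) (ht : t < 9) (hj : j < 15) : okK t j = true := by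
  match t, ht with
  | 0, _ => exact (allB_iff _ _).1 okK0 j hj
  | 1, _ => exact (allB_iff _ _).1 okK1 j hj
  | 2, _ => exact (allB_iff _ _).1 okK2 j hj
  | 3, _ => exact (allB_iff _ _).1 okK3 j hj
  | 4, _ => exact (allB_iff _ _).1 okK4 j hj
  | 5, _ => exact (allB_iff _ _).1 okK5 j hj
  | 6, _ => exact (allB_iff _ _).1 okK6 j hj
  | 7, _ => exact (allB_iff _ _).1 okK7 j hj
  | 8, _ => exact (allB_iff _ _).1 okK8 j hj

end Cfsg.Agent.H29.PJ.Chk
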