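import Cfsg.Agent.H29.PJ.ChkDef

set_option autoImplicit false

namespace Cfsg.Agent.H29.PJ.Chk

open Cfsg.Agent.J2.HundredGens Cfsg.Agent.J2Sylow.SporSylow Cfsg.Agent.J2Sylow.Model Cfsg.Agent.SporadicA.PermTab
  Cfsg.Agent.H29.PJ.Data

/-- (four parts: memory) -/
theorem okS0 : allB (fun k => chk (s (k + 0)) (wd (el (k + 0)))) 32 = true := by decide +kernel

theorem okS1 : allB (fun k => chk (s (k + 32)) (wd (el (k + 32)))) 32 = true := by decide +kernel

theorem okS2 : allB (fun k => chk (s (k + 64)) (wd (el (k + 64)))) 32 = true := by decide +kernel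

theorem okS3 : allB (fun k => chk (s (k + 96)) (wd (el (k + 96)))) 32 = true := by decide +kernel

theorem okS : allB (fun k => chk (s k) (wd (el k))) 128 = true := by
  rw [allB_iff]
  intro i hi
  have h0 := (allB_iff _ _).1 okS0
  have h1 := (allB_iff _ _).1 okS1
  have h2 := (allB_iff _ _).1 okS2
  have h3 := (allB_iff _ _).1 okS3
  by_cases c1 : i < 32
  · have := h0 i c1
    rwa [Nat.add_zero] at this
  by_cases c2 : i < 64
  · have := h1 (i - 32) (by omega)
    rwa [show i - 32 + 32 = i by omega] at this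
  by_cases c3 : i < 96
  · have := h2 (i - 64) (by omega)
    rwa [show i - 64 + 64 = i by omega] at this
  · have := h3 (i - 96) (by omega)
    rwa [show i - 96 + 96 = i by omega] at this

end Cfsg.Agent.H29.PJ.Chk
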