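import Cfsg.Agent.H29.PJ.ChkDef

set_option autoImplicit false

namespace Cfsg.Agent.H29.PJ.Chk

open Cfsg.Agent.J2.HundredGens Cfsg.Agent.J2Sylow.SporSylow Cfsg.Agent.J2Sylow.Model Cfsg.Agent.SporadicA.PermTab
  Cfsg.Agent.H29.PJ.Data

theorem okV : allB (fun i => Nat.blt (code (v i)) (code (v (i + 1)))) 314 = true := by decide +kernel

theorem okC : allB (fun j => chk (c j ++ zW) (zW ++ c j)) 15 = true := by decide +kernel

theorem okF : allB (fun k => allB (fun p => Nat.beq (f (run (s k) p)) (f p)) 100) 128 = true := by decide +kernel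

theorem okP' : allB (fun i => allB (okP i) 15) 15 = true := by decide +kernel

theorem okT : allB (fun i => Nat.blt (vI.getD i (0, 0)).1 9) 315 = true := by decide +kernel

theorem okN' : allB okN 15 = true := by decide +kernel

end Cfsg.Agent.H29.PJ.Chk
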