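import Cfsg.Agent.H29.PJ.ChkDef

set_option autoImplicit false

namespace Cfsg.Agent.H29.PJ.Chk

open Cfsg.Agent.J2.HundredGens Cfsg.Agent.J2Sylow.SporSylow Cfsg.Agent.J2Sylow.Model Cfsg.Agent.SporadicA.PermTab
  Cfsg.Agent.H29.PJ.Data

theorem okW_a : allB (fun k => chk (wW ++ s k ++ wW.reverse) (s (wS.getD k 0))) 32 = true := by decide +kernel

theorem okW_b : allB (fun k => chk (wW ++ s (32 + k) ++ wW.reverse) (s (wS.getD (32 + k) 0))) 32 = true := by
  decide +kernel

theorem okW_c : allB (fun k => chk (wW ++ s (64 + k) ++ wW.reverse) (s (wS.getD (64 + k) 0))) 32 = true := by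
  decide +kernel

theorem okW_d : allB (fun k => chk (wW ++ s (96 + k) ++ wW.reverse) (s (wS.getD (96 + k) 0))) 32 = true := by
  decide +kernel

theorem okW : allB (fun k => chk (wW ++ s k ++ wW.reverse) (s (wS.getD k 0))) 128 = true := by
  rw [allB_iff]
  intro i hi
  rcases lt_or_ge i 32 with h | h
  · exact (allB_iff _ _).1 okW_a i h
  rcases lt_or_ge i 64 with h' | h'
  · obtain ⟨j, rfl⟩ := Nat.exists_eq_add_of_le h
    exact (allB_iff _ _).1 okW_b j (by omega)
  rcases lt_or_ge i 96 with h'' | h''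
  · obtain ⟨j, rfl⟩ := Nat.exists_eq_add_of_le h'
    exact (allB_iff _ _).1 okW_c j (by omega)
  · obtain ⟨j, rfl⟩ := Nat.exists_eq_add_of_le h''
    exact (allB_iff _ _).1 okW_d j (by omega)

end Cfsg.Agent.H29.PJ.Chk
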