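import Cfsg.Agent.H29.PJ.Abs
import Cfsg.Agent.H29.PJ.ChkS
import Cfsg.Agent.H29.PJ.ChkV
import Cfsg.Agent.H29.PJ.ChkW
import Cfsg.Agent.H29.PJ.ChkB

/-!
# The subgroups of odd index of `J₂` are pronormal
-/

set_option autoImplicit false

namespace Cfsg.Agent.H29.PJ.JTwo

open Subgroup Cfsg.Agent.H408.Pron
open Cfsg.Agent.J2.HundredGens Cfsg.Agent.J2Sylow.SporSylow Cfsg.Agent.J2Sylow.Model Cfsg.Agent.SporadicA.PermTab
  Cfsg.Agent.H29.PJ.Data Cfsg.Agent.H29.PJ.Chk

/-- the group on 100 points -/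
abbrev X : Type := ↥Cfsg.Agent.SporadicA.J2Hundred.G

theorem gw_mul (L M : List ℕ) : gw L * gw M = gw (L ++ M) := Subtype.ext (pw_mul L M)

theorem gw_one : gw [] = 1 := Subtype.ext pw_nil

theorem gw_inv (L : List ℕ) : (gw L)⁻¹ = gw L.reverse := Subtype.ext (pw_inv L)

theorem gw_eq {L M : List ℕ} (h : chk L M = true) : gw L = gw M := Subtype.ext (pw_eq h)

theorem gw_val (L : List ℕ) (i : Fin 100) : (((gw L : X) : Equiv.Perm (Fin 100)) i : ℕ) = run L i := pw_val L i

theorem blt_lt {a b : ℕ} (h : Nat.blt a b = true) : a < b := by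
  rwa [Nat.blt_eq] at h

theorem card_X : Nat.card X = 604800 := by
  obtain ⟨e⟩ := J2_iso card_J2
  rw [← Nat.card_congr e.toEquiv, card_J2]

instance : Finite X := Nat.finite_of_card_ne_zero (by rw [card_X]; norm_num)

theorem card_range : Nat.card hom.range = 128 := by
  rw [← Nat.card_congr (MonoidHom.ofInjective hom_injective).toEquiv, T.card_T]

/-- the Sylow 2-subgroup -/
noncomputable def S : Sylow 2 X := Sylow.ofCard hom.range (by
  rw [card_range, card_X]
  have : (604800 : ℕ) = 2 ^ 7 * 4725 := by norm_num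
  rw [this, Nat.factorization_mul (by norm_num) (by norm_num), Finsupp.add_apply,
    Nat.Prime.factorization_pow Nat.prime_two, Finsupp.single_eq_same,
    Nat.factorization_eq_zero_of_not_dvd (by norm_num)]
  norm_num)

theorem S_eq : (S : Subgroup X) = hom.range := rfl

theorem hom_eq (t : T) : (hom t : X) = gw (wd t) := Subtype.ext (hom_val t)

theorem s_el {k : ℕ} (hk : k < 128) : gw (s k) = hom (el k) := by
  rw [hom_eq]
  exact gw_eq ((allB_iff _ _).1 okS k hk)

theorem s_ge {k : ℕ} (hk : 128 ≤ k) : s k = [] := by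
  unfold s
  exact List.getD_eq_default _ _ hk

theorem s_mem (k : ℕ) : gw (s k) ∈ (S : Subgroup X) := by
  rcases lt_or_ge k 128 with h | h
  · rw [s_el h]; exact ⟨_, rfl⟩
  · rw [s_ge h, gw_one]; exact one_mem _

def num : F4 → ℕ
  | .o => 0
  | .e => 1
  | .w => 2
  | .u => 3

theorem el_num : ∀ (a b c : F4) (x : Bool), el (32 * num a + 8 * num b + 2 * num c + x.toNat) = ⟨a, b, c, x⟩ ∧
    32 * num a + 8 * num b + 2 * num c + x.toNat < 128 := by decide +kernel

theorem mem_S {x : X} (hx : x ∈ (S : Subgroup X)) : ∃ k < 128, x = gw (s k) := by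
  obtain ⟨⟨a, b, c, y⟩, rfl⟩ := hx
  exact ⟨_, (el_num a b c y).2, by rw [s_el (el_num a b c y).2, (el_num a b c y).1]⟩

/-- `S` fixes the numbers of its orbits -/
theorem f_mem {x : X} (hx : x ∈ (S : Subgroup X)) (p : Fin 100) :
    f ((x : Equiv.Perm (Fin 100)) p : ℕ) = f p := by
  obtain ⟨k, hk, rfl⟩ := mem_S hx
  rw [gw_val]
  exact Nat.eq_of_beq_eq_true ((allB_iff _ _).1 ((allB_iff _ _).1 okF k hk) p p.2)

/-! ### the centre -/

def zT : T := ⟨.o, .o, .e, false⟩

theorem zT_comm : ∀ t : T, t * zT = zT * t := by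
  rintro ⟨a, b, c, x⟩
  revert a b c x
  decide +kernel

theorem center_T : ∀ t : T, t * ⟨.e, .o, .o, false⟩ = ⟨.e, .o, .o, false⟩ * t →
    t * ⟨.w, .o, .o, false⟩ = ⟨.w, .o, .o, false⟩ * t → t * ⟨.o, .e, .o, false⟩ = ⟨.o, .e, .o, false⟩ * t →
    t * ⟨.o, .o, .o, true⟩ = ⟨.o, .o, .o, true⟩ * t → t = 1 ∨ t = zT := by
  rintro ⟨a, b, c, x⟩
  revert a b c x
  decide +kernel

/-- the central involution -/
noncomputable def z : X := gw zW

theorem z_eq : z = hom zT := by
  rw [hom_eq]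
  exact gw_eq (by decide +kernel)

theorem z_ne : z ≠ 1 := by
  rw [z_eq]
  intro h
  have := hom_injective (h.trans (map_one hom).symm)
  exact absurd this (by decide +kernel)

theorem z_comm : ∀ x ∈ (S : Subgroup X), x * z = z * x := by
  rintro _ ⟨t, rfl⟩
  rw [z_eq, ← map_mul, ← map_mul, zT_comm]

theorem norm_z : ∀ g ∈ Subgroup.normalizer ((S : Subgroup X) : Set X), g * z = z * g := by
  intro g hg
  have hzS : z ∈ (S : Subgroup X) := by rw [z_eq]; exact ⟨_, rfl⟩
  obtain ⟨t, ht⟩ := (Subgroup.mem_normalizer_iff.1 hg z).1 hzS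
  have hcomm : ∀ u : T, t * u = u * t := by
    intro u
    apply hom_injective
    have hu : g⁻¹ * hom u * g ∈ (S : Subgroup X) := by
      rw [Subgroup.mem_normalizer_iff'.1 hg]
      have : g * (g⁻¹ * hom u) = hom u := by group
      rw [this]
      exact ⟨u, rfl⟩
    have h1 := z_comm _ hu
    rw [map_mul, map_mul]
    change hom t = g * z * g⁻¹ at ht
    rw [ht]
    calc g * z * g⁻¹ * hom u = g * (z * (g⁻¹ * hom u * g)) * g⁻¹ := by group
      _ = g * ((g⁻¹ * hom u * g) * z) * g⁻¹ := by rw [h1]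
      _ = hom u * (g * z * g⁻¹) := by group
  change hom t = g * z * g⁻¹ at ht
  rcases center_T t (hcomm _) (hcomm _) (hcomm _) (hcomm _) with h | h
  · rw [h, map_one] at ht
    exfalso
    apply z_ne
    calc z = g⁻¹ * (g * z * g⁻¹) * g := by group
      _ = 1 := by rw [← ht]; group
  · rw [h, ← z_eq] at ht
    calc g * z = (g * z * g⁻¹) * g := by group
      _ = z * g := by rw [← ht]

/-! ### the two lists -/

noncomputable def vv (i : Fin 315) : X := gw (v i)

noncomputable def cc (j : Fin 15) : X := gw (c j)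

theorem cc_comm (j : Fin 15) : cc j * z = z * cc j := by
  unfold cc z
  rw [gw_mul, gw_mul]
  exact gw_eq ((allB_iff _ _).1 okC j j.2)

theorem code_lt {i : ℕ} (k : ℕ) (h : i + k < 314) : code (v i) < code (v (i + k + 1)) := by
  induction k with
  | zero =>
    have h1 := (allB_iff _ _).1 okV i h
    exact blt_lt h1
  | succ k ih =>
    have h1 := (allB_iff _ _).1 okV (i + k + 1) h
    exact (ih (by omega)).trans (blt_lt h1)

theorem code_eq {i j : ℕ} (h : gw (v i ++ zW ++ (v i).reverse) = gw (v j ++ zW ++ (v j).reverse)) :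
    code (v i) = code (v j) := by
  have h1 : ∀ p : Fin 100, run (v i ++ zW ++ (v i).reverse) p = run (v j ++ zW ++ (v j).reverse) p := by
    intro p
    rw [← gw_val, ← gw_val, h]
  have h2 := h1 0
  have h3 := h1 1
  have h4 := h1 2
  change run _ 0 = run _ 0 at h2
  change run _ 1 = run _ 1 at h3
  change run _ 2 = run _ 2 at h4
  unfold code
  rw [h2, h3, h4]

theorem vv_inj (i j : Fin 315) (h : vv i * z * (vv i)⁻¹ = vv j * z * (vv j)⁻¹) : i = j := by
  unfold vv z at h
  rw [gw_inv, gw_inv, gw_mul, gw_mul, gw_mul, gw_mul] at h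
  have h1 := code_eq h
  rcases lt_trichotomy (i : ℕ) (j : ℕ) with h2 | h2 | h2
  · have h3 := code_lt (i := i) ((j : ℕ) - i - 1) (by have := j.2; omega)
    rw [show (i : ℕ) + ((j : ℕ) - i - 1) + 1 = j by omega] at h3
    omega
  · exact Fin.ext h2
  · have h3 := code_lt (i := j) ((i : ℕ) - j - 1) (by have := i.2; omega)
    rw [show (j : ℕ) + ((i : ℕ) - j - 1) + 1 = i by omega] at h3
    omega

theorem cc_inj (i j : Fin 15) (h : (cc i)⁻¹ * cc j ∈ (S : Subgroup X)) : i = j := by
  by_contra hij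
  have h1 := (allB_iff _ _).1 ((allB_iff _ _).1 okP' i i.2) j j.2
  unfold okP at h1
  rw [Bool.or_eq_true] at h1
  rcases h1 with h1 | h1
  · exact hij (Fin.ext (Nat.eq_of_beq_eq_true h1))
  · rw [Bool.and_eq_true] at h1
    obtain ⟨h1, h2⟩ := h1
    have h1' : pt i j < 100 := blt_lt h1
    set p : Fin 100 := ⟨pt i j, h1'⟩ with hp
    set x : X := (cc i)⁻¹ * cc j with hx
    have h3 : (cc j)⁻¹ = x⁻¹ * (cc i)⁻¹ := by rw [hx]; group
    have h4 : f ((((cc j)⁻¹ : X) : Equiv.Perm (Fin 100)) p : ℕ) =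
        f ((((cc i)⁻¹ : X) : Equiv.Perm (Fin 100)) p : ℕ) := by
      rw [h3]
      exact f_mem (inv_mem h) _
    unfold cc at h4
    rw [gw_inv, gw_inv, gw_val, gw_val] at h4
    rw [Bool.not_eq_true'] at h2
    have h5 : f (run (c i).reverse (pt i j)) ≠ f (run (c j).reverse (pt i j)) := by
      intro h6
      rw [h6, Nat.beq_refl] at h2
      exact absurd h2 (by decide)
    exact h5 h4.symm

/-! ### the element of order three in the normaliser -/

noncomputable def w : X := gw wW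

theorem w_conj {x : X} (hx : x ∈ (S : Subgroup X)) : w * x * w⁻¹ ∈ (S : Subgroup X) := by
  obtain ⟨k, hk, rfl⟩ := mem_S hx
  unfold w
  rw [gw_inv, gw_mul, gw_mul, gw_eq ((allB_iff _ _).1 okW k hk)]
  exact s_mem _

theorem w_norm : w ∈ Subgroup.normalizer ((S : Subgroup X) : Set X) :=
  Subgroup.mem_normalizer_fintype fun _ hx => w_conj hx

theorem cc_norm (j : Fin 15) (h : cc j ∈ Subgroup.normalizer ((S : Subgroup X) : Set X)) :
    cc j ∈ (S : Subgroup X) ⊔ zpowers w := by
  have hw : w ∈ (S : Subgroup X) ⊔ zpowers w := mem_sup_right (mem_zpowers w)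
  have h1 := (allB_iff _ _).1 okN' j j.2
  unfold okN at h1
  split at h1
  · next k _ =>
    unfold cc
    rw [gw_eq h1]
    exact mem_sup_left (s_mem k)
  · next k _ =>
    unfold cc
    rw [gw_eq h1, ← gw_mul]
    exact mul_mem hw (mem_sup_left (s_mem k))
  · next k _ =>
    unfold cc
    rw [gw_eq h1, ← gw_mul, ← gw_mul]
    exact mul_mem (mul_mem hw hw) (mem_sup_left (s_mem k))
  · next e k _ =>
    exfalso
    rw [Bool.and_eq_true] at h1
    obtain ⟨h1, h2⟩ := h1
    have h1' : k < 100 := blt_lt h1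
    have h3 := f_mem ((Subgroup.mem_normalizer_iff.1 h _).1 (s_mem e)) ⟨k, h1'⟩
    unfold cc at h3
    rw [gw_inv, gw_mul, gw_mul, gw_val] at h3
    change f (run (c j ++ s e ++ (c j).reverse) k) = f k at h3
    rw [h3, Nat.beq_refl] at h2
    exact absurd h2 (by decide)

theorem pr_mem {K : Subgroup X} (hK : (S : Subgroup X) ≤ K) {g : List ℕ} (hg : gw g ∈ K) (L : List ℕ) :
    gw (pr g L) ∈ K := by
  induction L with
  | nil => change gw [] ∈ K; rw [gw_one]; exact one_mem _
  | cons k L ih =>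
    change gw (g ++ s k ++ pr g L) ∈ K
    rw [← gw_mul, ← gw_mul]
    exact mul_mem (mul_mem hg (hK (s_mem k))) ih

theorem cert (t j : ℕ) (ht : t < 9) (hj : j < 15) :
    (∀ K : Subgroup X, (S : Subgroup X) ≤ K → gw (r t ++ c j) ∈ K → w ∈ K) ∨
      ∃ a ∈ (S : Subgroup X), ∃ b ∈ (S : Subgroup X), w * gw (r t ++ c j) * w⁻¹ = a * gw (r t ++ c j) * b := by
  have h1 := okK' t j ht hj
  unfold okK at h1
  split at h1
  · next a b _ _ =>
    right
    refine ⟨gw (s a), s_mem a, gw (s b), s_mem b, ?_⟩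
    unfold w
    rw [gw_inv, gw_mul, gw_mul, gw_mul, gw_mul]
    exact gw_eq h1
  · next L _ =>
    left
    intro K hK hg
    unfold w
    rw [← gw_eq h1]
    exact pr_mem hK hg L
  · next L _ =>
    left
    intro K hK hg
    have h2 : w⁻¹ ∈ K := by
      unfold w
      rw [gw_inv, ← gw_eq h1]
      exact pr_mem hK hg L
    exact (inv_mem_iff).1 h2
  · exact absurd h1 (by decide)

theorem po_X : PO X := by
  refine po_of_data S z w (m := 315) (n := 15) vv cc z_comm cc_comm vv_inj cc_inj ?_ norm_z cc_norm 12 ?_ w_norm ?_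
  · have h1 := Subgroup.card_mul_index (S : Subgroup X)
    rw [card_X, S_eq, card_range] at h1
    rw [S_eq]
    omega
  · unfold vv
    rw [← gw_one]
    exact gw_eq (by decide +kernel)
  · intro i j
    have ht : (vI.getD i (0, 0)).1 < 9 := blt_lt ((allB_iff _ _).1 okT i i.2)
    set a : X := gw (s (vI.getD i (0, 0)).2) with ha
    have haS : a ∈ (S : Subgroup X) := s_mem _
    have hv : vv i * cc j = a * gw (r (vI.getD i (0, 0)).1 ++ c j) := by
      unfold vv cc v
      rw [← gw_mul, ← gw_mul, mul_assoc]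
    rw [hv]
    rcases cert (vI.getD i (0, 0)).1 j ht j.2 with h | ⟨x, hx, y, hy, hxy⟩
    · left
      intro K hK hg
      refine h K hK ?_
      have := mul_mem (inv_mem (hK haS)) hg
      rwa [inv_mul_cancel_left] at this
    · right
      refine ⟨w * a * w⁻¹ * x * a⁻¹, mul_mem (mul_mem (w_conj haS) hx) (inv_mem haS), y, hy, ?_⟩
      calc w * (a * gw (r (vI.getD i (0, 0)).1 ++ c j)) * w⁻¹
          = w * a * w⁻¹ * (w * gw (r (vI.getD i (0, 0)).1 ++ c j) * w⁻¹) := by group
        _ = _ := by rw [hxy]; group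

universe u

theorem po_j2 {K : Type u} [Group K] [Finite K] (h : Cfsg.Spor.IsoJ2 K) : PO K := by
  obtain ⟨e⟩ := J2_iso card_J2
  obtain ⟨f⟩ := h
  exact PO.congr (f.trans e).symm po_X

end Cfsg.Agent.H29.PJ.JTwo
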