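import Cfsg.Agent.H408.Pron.Defs

/-!
# Pronormality of the subgroups of odd index from an explicit list of cosets

`po_of_data`: `S` a Sylow 2-subgroup, `z` in the centre of `S` and fixed by `N(S)`, elements `v i` (with `v i z (v i)⁻¹`
different) and `c j ∈ C(z)` (in different cosets of `S`), and their numbers have the product `|G : S|`; then
`G = ⋃ v i c j S`.
-/

set_option autoImplicit false

namespace Cfsg.Agent.H29.PJ

open Subgroup Cfsg.Agent.H408.Pron

universe u

variable {G : Type u} [Group G] [Finite G]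

theorem cover (S : Subgroup G) (z : G) {m n : ℕ} (v : Fin m → G) (c : Fin n → G)
    (hz : ∀ s ∈ S, s * z = z * s) (hc : ∀ j, c j * z = z * c j)
    (hv : ∀ i j, v i * z * (v i)⁻¹ = v j * z * (v j)⁻¹ → i = j)
    (hcc : ∀ i j, (c i)⁻¹ * c j ∈ S → i = j) (hcard : m * n = S.index) (g : G) :
    ∃ i j, ∃ s ∈ S, g = v i * c j * s := by
  have hinj : Function.Injective (fun p : Fin m × Fin n => ((v p.1 * c p.2 : G) : G ⧸ S)) := by
    rintro ⟨i, j⟩ ⟨i', j'⟩ h
    have h1 : (v i * c j)⁻¹ * (v i' * c j') ∈ S := QuotientGroup.eq.1 h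
    set s := (v i * c j)⁻¹ * (v i' * c j') with hs
    have h2 : v i' * c j' = v i * c j * s := by rw [hs]; group
    have h3 : v i' * z * (v i')⁻¹ = v i * z * (v i)⁻¹ := by
      have e1 : v i' = v i * c j * s * (c j')⁻¹ := by rw [← h2]; group
      have e2 : (c j')⁻¹ * z * c j' = z := by
        rw [mul_assoc, ← hc, ← mul_assoc, inv_mul_cancel, one_mul]
      have e3 : s * z * s⁻¹ = z := by rw [hz s h1, mul_assoc, mul_inv_cancel, mul_one]
      have e4 : c j * z * (c j)⁻¹ = z := by rw [hc j, mul_assoc, mul_inv_cancel, mul_one]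
      calc v i' * z * (v i')⁻¹ = v i * (c j * (s * ((c j')⁻¹ * z * c j') * s⁻¹) * (c j)⁻¹) * (v i)⁻¹ := by
            rw [e1]; group
        _ = v i * z * (v i)⁻¹ := by rw [e2, e3, e4]
    have h4 : i' = i := hv _ _ h3
    subst h4
    have h5 : (c j)⁻¹ * c j' = s := by rw [hs]; group
    have h6 : j = j' := hcc _ _ (by rw [h5]; exact h1)
    rw [h6]
  have hsurj : Function.Surjective (fun p : Fin m × Fin n => ((v p.1 * c p.2 : G) : G ⧸ S)) := by
    have : Fintype (G ⧸ S) := Fintype.ofFinite _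
    refine ((Fintype.bijective_iff_injective_and_card _).2 ⟨hinj, ?_⟩).2
    rw [Fintype.card_prod, Fintype.card_fin, Fintype.card_fin, hcard, Subgroup.index, Nat.card_eq_fintype_card]
  obtain ⟨⟨i, j⟩, hij⟩ := hsurj (g : G ⧸ S)
  refine ⟨i, j, (v i * c j)⁻¹ * g, QuotientGroup.eq.1 hij, by group⟩

theorem po_of_data (S : Sylow 2 G) (z w : G) {m n : ℕ} (v : Fin m → G) (c : Fin n → G)
    (hz : ∀ s ∈ (S : Subgroup G), s * z = z * s) (hc : ∀ j, c j * z = z * c j)
    (hv : ∀ i j, v i * z * (v i)⁻¹ = v j * z * (v j)⁻¹ → i = j)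
    (hcc : ∀ i j, (c i)⁻¹ * c j ∈ (S : Subgroup G) → i = j) (hcard : m * n = (S : Subgroup G).index)
    (hN : ∀ g ∈ Subgroup.normalizer ((S : Subgroup G) : Set G), g * z = z * g)
    (hNc : ∀ j, c j ∈ Subgroup.normalizer ((S : Subgroup G) : Set G) → c j ∈ (S : Subgroup G) ⊔ zpowers w)
    (i0 : Fin m) (hi0 : v i0 = 1) (hw : w ∈ Subgroup.normalizer ((S : Subgroup G) : Set G))
    (hcert : ∀ i j, (∀ K : Subgroup G, (S : Subgroup G) ≤ K → v i * c j ∈ K → w ∈ K) ∨
      ∃ s ∈ (S : Subgroup G), ∃ t ∈ (S : Subgroup G), w * (v i * c j) * w⁻¹ = s * (v i * c j) * t) : PO G := by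
  have hcov := cover (S : Subgroup G) z v c hz hc hv hcc hcard
  refine PO.of_one S w ?_ ?_
  · intro g hg
    obtain ⟨i, j, s, hs, rfl⟩ := hcov g
    have h1 : v i * c j ∈ Subgroup.normalizer ((S : Subgroup G) : Set G) := by
      have h2 := mul_mem hg (Subgroup.le_normalizer (inv_mem hs))
      rwa [mul_inv_cancel_right] at h2
    have h2 := hN _ h1
    have h3 : v i * z * (v i)⁻¹ = v i0 * z * (v i0)⁻¹ := by
      rw [hi0, one_mul, inv_one, mul_one]
      calc v i * z * (v i)⁻¹ = v i * (z * c j) * (c j)⁻¹ * (v i)⁻¹ := by group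
        _ = (v i * c j * z) * (c j)⁻¹ * (v i)⁻¹ := by rw [← hc]; group
        _ = z := by rw [h2]; group
    have h4 := hv _ _ h3
    subst h4
    rw [hi0, one_mul] at h1 ⊢
    exact mul_mem (hNc j h1) (mem_sup_left hs)
  · intro K hSK hwK x hx
    obtain ⟨i, j, s, hs, rfl⟩ := hcov x
    have h1 : v i * c j ∈ K := by
      have h2 := mul_mem hx (inv_mem (hSK hs))
      rwa [mul_inv_cancel_right] at h2
    rcases hcert i j with h2 | ⟨a, ha, b, hb, hab⟩
    · exact absurd (h2 K hSK h1) hwK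
    · have h3 : w * s * w⁻¹ ∈ (S : Subgroup G) := (Subgroup.mem_normalizer_iff.1 hw s).1 hs
      have h4 : w * (v i * c j * s) * w⁻¹ = (w * (v i * c j) * w⁻¹) * (w * s * w⁻¹) := by group
      rw [h4, hab]
      exact mul_mem (mul_mem (mul_mem (hSK ha) h1) (hSK hb)) (hSK h3)

end Cfsg.Agent.H29.PJ
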