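import Cfsg.Agent.H29.PJ.Data

/-!
# `J₂`: the double cosets of a Sylow 2-subgroup, the checks
-/

set_option autoImplicit false

namespace Cfsg.Agent.H29.PJ.Chk

open Cfsg.Agent.J2.HundredGens Cfsg.Agent.J2Sylow.SporSylow Cfsg.Agent.J2Sylow.Model Cfsg.Agent.SporadicA.PermTab
  Cfsg.Agent.H29.PJ.Data

def F : ℕ → F4
  | 0 => .o
  | 1 => .e
  | 2 => .w
  | _ => .u

/-- the element of the model with the number `k` -/
def el (k : ℕ) : T := ⟨F (k / 32), F (k / 8 % 4), F (k / 2 % 4), k % 2 == 1⟩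

def s (k : ℕ) : List ℕ := sW.getD k []
def r (k : ℕ) : List ℕ := rW.getD k []
def c (k : ℕ) : List ℕ := cW.getD k []
def v (i : ℕ) : List ℕ := s (vI.getD i (0, 0)).2 ++ r (vI.getD i (0, 0)).1

/-- the number of the orbit of the point `p` -/
def f (p : ℕ) : ℕ := Nat.land (Nat.shiftRight orbN (Nat.mul 4 p)) 15

/-- the code of the conjugate of `z` by the word `L` -/
def code (L : List ℕ) : ℕ :=
  Nat.add (Nat.mul (Nat.add (Nat.mul (run (L ++ zW ++ L.reverse) 0) 128) (run (L ++ zW ++ L.reverse) 1)) 128)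
    (run (L ++ zW ++ L.reverse) 2)

def pt (i j : ℕ) : ℕ := (ppt.getD i []).getD j 0

/-- the product `g * s k₁ * g * s k₂ * …` -/
def pr (g : List ℕ) : List ℕ → List ℕ
  | [] => []
  | k :: L => g ++ s k ++ pr g L

def okK (t j : ℕ) : Bool :=
  match ct.getD (15 * t + j) (0, []) with
  | (0, a :: b :: _) => chk (wW ++ (r t ++ c j) ++ wW.reverse) (s a ++ (r t ++ c j) ++ s b)
  | (1, L) => chk (pr (r t ++ c j) L) wW
  | (2, L) => chk (pr (r t ++ c j) L) wW.reverse
  | _ => false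

def okN (j : ℕ) : Bool :=
  match nI.getD j (0, 0) with
  | (0, k) => chk (c j) (s k)
  | (1, k) => chk (c j) (wW ++ s k)
  | (2, k) => chk (c j) (wW ++ wW ++ s k)
  | (e + 3, k) => Nat.blt k 100 && !Nat.beq (f (run (c j ++ s e ++ (c j).reverse) k)) (f k)

/-- the point `pt i j` distinguishes the cosets of `c i` and `c j` -/
def okP (i j : ℕ) : Bool :=
  Nat.beq i j || (Nat.blt (pt i j) 100 &&
    !Nat.beq (f (run (c i).reverse (pt i j))) (f (run (c j).reverse (pt i j))))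

end Cfsg.Agent.H29.PJ.Chk
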