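import Cfsg.Agent.J2Sylow.SporSylow

/-!
# `J₂`: the double cosets of a Sylow 2-subgroup, data
-/

set_option autoImplicit false

namespace Cfsg.Agent.H29.PJ.Data

/-- short words of the elements of the Sylow subgroup -/
def sW : List (List ℕ) := [
  [], [2],
  [1, 2, 3, 2, 1, 0, 1, 2, 3, 1, 2, 1], [1, 2, 3, 2, 1, 0, 1, 2, 3, 2, 1],
  [4, 3, 2, 1, 0, 1, 2, 3, 4, 2, 3, 2, 1, 0, 1, 2, 3, 4, 2, 3, 2, 3, 1, 2, 3, 2], [4, 3, 2, 1, 0, 1, 2, 3, 4, 2, 3, 2, 1, 0, 1, 2, 3, 4, 2, 3, 2, 3, 1, 2, 3],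
  [3, 1, 0, 1, 2, 3, 4, 2, 3, 2, 3, 1, 2, 3, 0, 1, 2, 3, 4, 2, 3, 2, 3, 1, 0, 1], [3, 2, 3, 1, 2, 3, 4, 2, 3, 2, 1, 0, 1, 2, 3, 4, 2, 3, 2, 1, 0, 1, 2, 3, 4],
  [2, 3, 2, 3, 1, 2, 3, 2], [2, 3, 2, 3, 1, 2, 3],
  [3, 1, 2, 3, 0, 1, 0, 1, 2, 3, 0, 1], [3, 1, 2, 3, 0, 1, 0, 1, 2, 3, 0, 1, 2],
  [4, 3, 2, 1, 0, 1, 2, 3, 4, 2, 3, 2, 1, 0, 1, 2, 3, 4], [4, 3, 2, 1, 0, 1, 2, 3, 4, 2, 3, 2, 1, 0, 1, 2, 3, 4, 2],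
  [3, 4, 3, 2, 3, 1, 2, 3, 1, 0, 1, 2, 3, 4, 3, 0, 1, 2, 3, 1, 2, 3, 4, 3, 2, 1, 0], [3, 2, 0, 1, 0, 1, 2, 3, 4, 2, 3, 2, 1, 0, 1, 2, 3, 4, 2, 3, 2, 3, 1, 2, 3, 0, 1],
  [1, 2, 3, 4, 3, 1, 2, 3, 0, 1, 2, 3, 4, 2, 3, 1, 2, 3, 1, 0], [3, 4, 2, 3, 0, 1, 2, 3, 4, 2, 3, 1, 2, 3, 4, 1, 2, 0, 1],
  [1, 2, 3, 4, 2, 3, 1, 2, 3, 0, 1, 2, 3, 4, 0, 1, 2, 3, 2, 3, 1, 0], [3, 0, 1, 2, 3, 4, 2, 3, 1, 0, 1, 2, 3, 1, 2, 3, 4, 1, 2, 3, 2, 1],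
  [0, 1, 2, 3, 4, 3, 1, 0, 1, 2, 3, 2, 1, 0, 1, 2, 3, 4, 3, 2, 0, 1, 0], [0, 1, 2, 3, 4, 3, 2, 0, 1, 0, 1, 2, 3, 2, 3, 4, 3, 1, 2, 0, 1, 0],
  [0, 1, 2, 3, 4, 3, 2, 3, 0, 1, 0, 1, 2, 3, 4, 1, 2, 3, 0, 1, 2, 0, 1, 0], [0, 1, 2, 3, 4, 3, 2, 3, 0, 1, 0, 1, 2, 3, 4, 1, 2, 3, 0, 1, 0, 1, 2, 1, 0],
  [4, 2, 3, 1, 2, 3, 4, 1, 2, 3, 1, 2, 3, 4, 1, 2], [4, 2, 3, 1, 2, 3, 4, 1, 2, 3, 1, 2, 3, 4, 1],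
  [1, 2, 3, 4, 2, 3, 1, 0, 1, 2, 3, 1, 2, 3, 4, 3, 1, 0, 1, 2, 1], [1, 2, 3, 4, 2, 3, 1, 0, 1, 2, 3, 1, 2, 3, 4, 3, 1, 2, 0, 1],
  [2, 1, 0, 1, 2, 3, 1, 2, 3, 4, 1, 2, 3, 2, 1, 0, 1, 2, 3, 2, 3, 4, 3, 2, 1, 0], [0, 1, 2, 3, 4, 3, 2, 3, 2, 1, 0, 1, 2, 3, 4, 2, 3, 1, 2, 3, 1, 2, 1, 0, 1],
  [2, 1, 0, 1, 2, 3, 1, 2, 3, 4, 3, 2, 1, 0, 1, 2, 3, 1, 2, 3, 4, 3, 2, 1, 0], [0, 1, 2, 3, 4, 3, 2, 3, 2, 1, 0, 1, 2, 3, 4, 3, 1, 2, 3, 1, 2, 1, 0, 1],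
  [3, 2, 3, 1, 2, 3], [3, 2, 3, 1, 2, 3, 2],
  [2, 3, 1, 2, 3, 0, 1, 0, 1, 2, 3, 0, 1, 2], [2, 3, 1, 2, 3, 0, 1, 0, 1, 2, 3, 0, 1],
  [4, 3, 2, 1, 0, 1, 2, 3, 4, 2, 3, 2, 1, 0, 1, 2, 3, 4, 2, 3, 2, 1, 0, 1, 2, 3, 1], [3, 1, 2, 3, 0, 1, 2, 3, 4, 2, 3, 2, 1, 0, 1, 2, 3, 4, 2, 3, 2, 1, 0, 1, 2, 3, 0],
  [4, 2, 3, 2, 1, 0, 1, 2, 3, 4, 2, 3, 2, 1, 0, 1, 2, 3, 4, 2], [4, 2, 3, 2, 1, 0, 1, 2, 3, 4, 2, 3, 2, 1, 0, 1, 2, 3, 4],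
  [2, 3, 2, 1, 0, 1, 2, 3, 1], [2, 3, 2, 1, 0, 1, 2, 3, 1, 2],
  [3, 2, 1, 0, 1, 2, 3, 1, 2], [3, 2, 1, 0, 1, 2, 3, 1],
  [4, 3, 2, 1, 0, 1, 2, 3, 4, 2, 3, 2, 1, 0, 1, 2, 3, 4, 3, 2, 3, 1, 2, 3], [4, 3, 2, 1, 0, 1, 2, 3, 4, 2, 3, 2, 1, 0, 1, 2, 3, 4, 3, 2, 3, 1, 2, 3, 2],
  [3, 2, 3, 4, 1, 2, 3, 2, 1, 0, 1, 2, 3, 4, 3, 2, 3, 2, 1, 0, 1, 2, 3, 4], [3, 2, 3, 4, 1, 2, 3, 2, 1, 0, 1, 2, 3, 4, 3, 2, 3, 2, 1, 0, 1, 2, 3, 4, 2],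
  [4, 2, 3, 1, 2, 3, 4, 1, 2, 3, 1, 2, 3, 4, 3, 2, 1, 0, 1, 2, 3], [4, 2, 3, 1, 2, 3, 4, 1, 2, 3, 1, 2, 3, 4, 3, 2, 1, 0, 1, 2, 3, 2],
  [4, 2, 3, 1, 2, 3, 4, 2, 3, 1, 2, 3, 4, 0, 1, 2, 3, 2, 1, 0, 1, 2, 3, 2], [4, 2, 3, 1, 2, 3, 4, 2, 3, 1, 2, 3, 4, 0, 1, 2, 3, 2, 1, 0, 1, 2, 3],
  [3, 4, 2, 1, 0, 1, 2, 3, 2, 3, 4, 3, 1, 2, 3, 1, 2, 3, 4, 1, 2], [3, 4, 2, 1, 0, 1, 2, 3, 2, 3, 4, 3, 1, 2, 3, 1, 2, 3, 4, 1],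
  [2, 3, 2, 1, 0, 1, 2, 3, 4, 2, 3, 1, 2, 3, 4, 0, 1, 2, 3, 2, 3, 4, 1, 2], [2, 3, 2, 1, 0, 1, 2, 3, 4, 2, 3, 1, 2, 3, 4, 0, 1, 2, 3, 2, 3, 4, 1],
  [4, 2, 3, 1, 2, 3, 4, 1, 2, 3, 1, 2, 3, 4, 1, 2, 3, 2, 3, 1, 2, 3], [1, 2, 3, 4, 3, 1, 2, 3, 0, 1, 2, 3, 4, 0, 1, 2, 3, 0, 1, 2, 3, 1, 0],
  [1, 2, 3, 4, 3, 1, 2, 3, 0, 1, 2, 3, 4, 2, 3, 1, 0, 1, 2, 3, 0, 1, 2, 0], [1, 2, 3, 4, 3, 1, 2, 3, 0, 1, 2, 3, 4, 2, 3, 1, 0, 1, 2, 3, 0, 1, 0],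
  [2, 3, 1, 2, 0, 1, 0, 1, 2, 3, 4, 3, 2, 3, 1, 2, 3, 4, 3, 1, 0, 1, 2, 1], [2, 3, 1, 2, 0, 1, 0, 1, 2, 3, 4, 3, 2, 3, 1, 2, 3, 4, 3, 1, 2, 0, 1],
  [3, 2, 3, 1, 2, 3, 4, 2, 3, 1, 2, 3, 4, 1, 2, 3, 1, 2, 3, 4, 1, 2], [3, 2, 3, 1, 2, 3, 4, 2, 3, 1, 2, 3, 4, 1, 2, 3, 1, 2, 3, 4, 1],
  [4, 3, 1, 2, 3, 4, 1, 2, 3, 1, 2, 3, 4, 1], [4, 3, 1, 2, 3, 4, 1, 2, 3, 1, 2, 3, 4, 1, 2],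
  [1, 2, 3, 4, 2, 3, 1, 2, 3, 1, 2, 3, 4, 1, 2, 3, 0, 1, 2, 0, 1], [1, 2, 3, 4, 3, 0, 1, 2, 3, 1, 2, 3, 4, 1, 0, 1, 2, 3, 2, 1],
  [1, 0, 1, 2, 3, 1, 2, 3, 4, 3, 2, 1, 0, 1, 2, 3, 1, 2, 3, 4, 3, 1, 2, 1, 0], [1, 0, 1, 2, 3, 1, 2, 3, 4, 3, 2, 1, 0, 1, 2, 3, 1, 2, 3, 4, 3, 2, 1, 0],
  [1, 2, 3, 0, 1, 2, 3, 4, 1, 2, 3, 2, 1, 0, 1, 2, 3, 2, 3, 4, 3, 1, 2, 0, 1, 0], [1, 0, 1, 2, 3, 1, 2, 3, 4, 1, 2, 3, 2, 1, 0, 1, 2, 3, 2, 3, 4, 3, 2, 1, 0],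
  [3, 0, 1, 2, 3, 4, 1, 2, 3, 0, 1, 2, 3, 0, 1, 2, 3, 4, 3, 2, 0, 1], [3, 0, 1, 2, 3, 4, 1, 2, 3, 0, 1, 2, 3, 0, 1, 2, 3, 4, 3, 0, 1, 2, 1],
  [3, 1, 2, 0, 1, 0, 1, 2, 3, 4, 3, 2, 3, 1, 2, 3, 4, 3, 1, 2, 0, 1], [3, 1, 2, 0, 1, 0, 1, 2, 3, 4, 3, 2, 3, 1, 2, 3, 4, 3, 1, 0, 1, 2, 1],
  [1, 2, 3, 4, 3, 2, 3, 0, 1, 2, 3, 4, 0, 1, 2, 3, 0, 1, 2, 3, 1, 0], [4, 3, 1, 2, 3, 4, 1, 2, 3, 1, 2, 3, 4, 1, 2, 3, 2, 3, 1, 2, 3],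
  [1, 2, 3, 4, 3, 2, 3, 0, 1, 2, 3, 4, 2, 3, 1, 0, 1, 2, 3, 0, 1, 0], [1, 2, 3, 4, 3, 2, 3, 0, 1, 2, 3, 4, 2, 3, 1, 0, 1, 2, 3, 0, 1, 2, 0],
  [0, 1, 2, 3, 4, 2, 3, 1, 2, 3, 4, 3, 1, 0, 1, 2, 3, 1, 2, 0, 1], [0, 1, 2, 3, 2, 3, 4, 1, 2, 3, 2, 3, 4, 1, 0, 1, 2, 3, 1, 2, 0, 1],
  [0, 1, 2, 3, 4, 2, 3, 1, 2, 3, 4, 3, 0, 1, 0, 1, 2, 3, 1, 2, 0, 1], [0, 1, 2, 3, 4, 2, 3, 1, 2, 3, 4, 3, 2, 1, 0, 1, 2, 3, 1, 2, 0, 1],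
  [1, 2, 3, 4, 0, 1, 2, 3, 1, 0, 1, 2, 3, 4, 3, 0, 1, 2, 3, 2, 1, 0], [1, 2, 3, 0, 1, 2, 3, 4, 1, 0, 1, 2, 3, 2, 3, 4, 1, 2, 3, 2, 1, 0],
  [1, 2, 3, 4, 0, 1, 2, 3, 1, 0, 1, 2, 3, 4, 3, 1, 2, 3, 2, 1, 0], [1, 2, 3, 4, 0, 1, 2, 3, 1, 0, 1, 2, 3, 4, 3, 1, 2, 3, 1, 2, 1, 0],
  [1, 2, 3, 4, 3, 1, 2, 3, 2, 1, 0, 1, 2, 3, 1, 2, 3, 4, 3, 2, 1], [1, 2, 3, 4, 3, 1, 2, 3, 2, 1, 0, 1, 2, 3, 1, 2, 3, 4, 3, 1, 2, 1],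
  [1, 2, 3, 4, 3, 2, 3, 2, 1, 0, 1, 2, 3, 1, 2, 3, 4, 3, 1, 2, 1], [1, 2, 3, 4, 3, 2, 3, 2, 1, 0, 1, 2, 3, 1, 2, 3, 4, 3, 2, 1],
  [0, 1, 2, 3, 2, 3, 4, 1, 2, 3, 2, 3, 4, 3, 1, 2, 3, 2, 1, 0], [0, 1, 2, 3, 2, 3, 4, 1, 2, 3, 2, 3, 4, 3, 1, 2, 3, 1, 2, 1, 0],
  [0, 1, 2, 3, 4, 2, 3, 1, 2, 3, 4, 3, 2, 3, 1, 2, 3, 2, 1, 0], [0, 1, 2, 3, 4, 2, 3, 1, 2, 3, 4, 3, 2, 3, 1, 2, 3, 1, 2, 1, 0],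
  [1, 2, 3, 4, 3, 2, 3, 0, 1, 2, 3, 4, 2, 3, 1, 2, 3, 1, 2, 0], [1, 2, 3, 4, 3, 2, 3, 0, 1, 2, 3, 4, 2, 3, 1, 2, 3, 1, 0],
  [1, 2, 3, 4, 2, 3, 1, 2, 3, 1, 2, 3, 4, 1, 0, 1, 2, 3, 2, 3, 1, 2, 0], [1, 2, 3, 4, 2, 3, 1, 2, 3, 1, 2, 3, 4, 1, 0, 1, 2, 3, 2, 3, 1, 0],
  [0, 1, 2, 3, 4, 3, 1, 2, 3, 0, 1, 0, 1, 2, 3, 4, 1, 2, 3, 0, 1, 0, 1, 2, 1, 0], [0, 1, 2, 3, 4, 3, 1, 2, 3, 0, 1, 0, 1, 2, 3, 4, 1, 2, 3, 0, 1, 2, 0, 1, 0],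
  [0, 1, 2, 3, 4, 3, 1, 2, 0, 1, 0, 1, 2, 3, 2, 3, 4, 3, 1, 2, 0, 1, 0], [0, 1, 2, 3, 4, 3, 0, 1, 2, 3, 2, 1, 0, 1, 2, 3, 4, 3, 2, 0, 1, 0],
  [2, 3, 4, 2, 1, 0, 1, 2, 3, 2, 3, 4, 3, 1, 2, 3, 1, 2, 3, 4, 1], [2, 3, 4, 2, 1, 0, 1, 2, 3, 2, 3, 4, 3, 1, 2, 3, 1, 2, 3, 4, 1, 2],
  [3, 2, 1, 0, 1, 2, 3, 4, 2, 3, 1, 2, 3, 4, 0, 1, 2, 3, 2, 3, 4, 1], [3, 2, 1, 0, 1, 2, 3, 4, 2, 3, 1, 2, 3, 4, 0, 1, 2, 3, 2, 3, 4, 1, 2],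
  [4, 3, 1, 2, 3, 4, 2, 3, 1, 2, 3, 4, 0, 1, 2, 3, 2, 1, 0, 1, 2, 3], [4, 3, 1, 2, 3, 4, 2, 3, 1, 2, 3, 4, 0, 1, 2, 3, 2, 1, 0, 1, 2, 3, 2],
  [4, 3, 1, 2, 3, 4, 1, 2, 3, 1, 2, 3, 4, 3, 2, 1, 0, 1, 2, 3, 2], [4, 3, 1, 2, 3, 4, 1, 2, 3, 1, 2, 3, 4, 3, 2, 1, 0, 1, 2, 3],
  [0, 1, 2, 3, 4, 2, 3, 1, 2, 3, 4, 1, 2, 3, 1, 2, 1, 0], [0, 1, 2, 3, 4, 2, 3, 1, 2, 3, 4, 1, 2, 3, 2, 1, 0],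
  [0, 1, 2, 3, 4, 1, 2, 3, 1, 2, 3, 4, 1, 2, 3, 2, 1, 0], [0, 1, 2, 3, 4, 2, 3, 1, 2, 3, 4, 0, 1, 2, 3, 2, 1, 0],
  [3, 2, 3, 1, 0, 1, 2, 3, 4, 3, 2, 3, 1, 0, 1, 2, 3, 1, 2, 3, 4, 3, 2, 1], [3, 2, 3, 1, 0, 1, 2, 3, 4, 3, 2, 3, 1, 0, 1, 2, 3, 1, 2, 3, 4, 3, 1, 2, 1],
  [1, 2, 3, 4, 3, 2, 3, 1, 2, 3, 1, 0, 1, 2, 3, 4, 3, 2, 3, 1, 0, 1, 2, 3], [1, 2, 3, 4, 3, 2, 3, 1, 2, 3, 1, 0, 1, 2, 3, 4, 3, 2, 3, 1, 0, 1, 2, 3, 2],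
  [1, 2, 3, 4, 0, 1, 2, 3, 1, 0, 1, 2, 3, 4, 2, 3, 1, 2, 3, 1, 2, 1, 0], [1, 2, 3, 4, 0, 1, 2, 3, 1, 0, 1, 2, 3, 4, 2, 3, 1, 2, 3, 2, 1, 0],
  [1, 2, 3, 4, 2, 0, 1, 0, 1, 2, 3, 1, 2, 3, 4, 3, 1, 2, 3, 1, 2, 1, 0], [1, 2, 3, 4, 2, 0, 1, 0, 1, 2, 3, 1, 2, 3, 4, 3, 1, 2, 3, 2, 1, 0],
  [0, 1, 2, 3, 4, 2, 3, 1, 2, 3, 4, 2, 3, 2, 1, 0, 1, 2, 3, 1, 2, 0, 1], [0, 1, 2, 3, 4, 1, 2, 3, 1, 2, 3, 4, 3, 1, 0, 1, 2, 3, 1, 2, 0, 1],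
  [0, 1, 2, 3, 4, 1, 2, 3, 1, 2, 3, 4, 3, 2, 1, 0, 1, 2, 3, 1, 2, 0, 1], [0, 1, 2, 3, 4, 2, 3, 1, 2, 3, 4, 2, 3, 1, 0, 1, 2, 3, 1, 2, 0, 1]]

/-- words of the `r t`: the conjugates `r t z (r t)⁻¹` represent the orbits of `S` on the class of `z` -/
def rW : List (List ℕ) := [
  [], [3],
  [0], [4],
  [3, 1], [4, 1],
  [1, 0, 1], [4, 0, 1, 0],
  [1, 2, 3, 2, 3, 1, 2, 3, 4]]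

/-- words of the representatives of the cosets of `S` in `C(z)` -/
def cW : List (List ℕ) := [
  [], [3, 0, 1, 0, 1, 0],
  [1, 2, 3, 4, 3, 2, 1], [0, 1, 2, 3, 4, 3, 2, 1, 0],
  [3, 2, 3, 1, 2, 0, 1, 0, 1, 0], [3, 0, 1, 2, 3, 4, 3, 2, 0, 1, 0],
  [0, 1, 2, 3, 4, 3, 2, 3, 0, 1, 0], [3, 0, 1, 2, 3, 4, 3, 2, 3, 1, 0],
  [1, 2, 3, 4, 3, 2, 3, 0, 1, 0, 1], [3, 1, 0, 1, 2, 3, 4, 3, 2, 3, 1, 0, 1],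
  [4, 1, 2, 3, 2, 1, 0, 1, 2, 3, 4, 2, 1, 0], [0, 1, 2, 3, 4, 0, 1, 2, 3, 2, 3, 1, 0, 1],
  [3, 0, 1, 2, 3, 4, 1, 2, 3, 2, 3, 1, 0, 1], [1, 2, 3, 0, 1, 2, 3, 4, 1, 2, 3, 2, 0, 1, 0],
  [1, 2, 3, 0, 1, 2, 3, 4, 2, 3, 1, 2, 3, 1, 0, 1]]

/-- the word of `z` -/
def zW : List ℕ := [1, 2, 3, 2, 1, 0, 1, 2, 3, 1, 2, 1]

/-- the word of `w` -/
def wW : List ℕ := [3, 0, 1, 2, 3, 4, 3, 2, 0, 1, 0]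

/-- the 315 conjugates of `z`: `v = s k * r t` -/
def vI : List (ℕ × ℕ) := [
  (3, 29), (6, 33), (6, 124), (6, 86), (3, 97), (7, 42), (6, 39), (6, 42), (6, 2), (6, 0), (6, 40), (6, 35),
  (0, 0), (3, 72), (6, 9), (6, 11), (6, 82), (3, 77), (7, 11), (6, 13), (6, 115), (3, 25), (7, 33), (3, 101),
  (3, 48), (6, 117), (6, 46), (7, 9), (6, 119), (8, 0), (7, 40), (6, 113), (7, 2), (3, 99), (2, 17), (6, 44),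
  (6, 89), (7, 0), (6, 6), (3, 51), (6, 15), (3, 53), (7, 35), (6, 120), (6, 122), (3, 27), (3, 103), (6, 80),
  (6, 91), (6, 95), (3, 74), (6, 4), (6, 93), (3, 31), (2, 25), (2, 97), (6, 126), (3, 78), (3, 55), (8, 1),
  (6, 37), (2, 64), (6, 84), (1, 1), (3, 46), (4, 41), (6, 8), (4, 33), (6, 34), (3, 5), (1, 33), (1, 43),
  (6, 32), (3, 7), (4, 1), (4, 0), (3, 14), (1, 0), (6, 3), (1, 8), (3, 39), (4, 42), (6, 41), (2, 0),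
  (2, 9), (2, 32), (2, 43), (6, 10), (3, 44), (1, 9), (4, 9), (1, 64), (3, 9), (4, 12), (6, 5), (3, 12),
  (6, 1), (4, 8), (1, 32), (4, 38), (6, 45), (3, 35), (1, 12), (3, 36), (6, 43), (1, 40), (4, 32), (6, 105),
  (5, 2), (5, 113), (6, 68), (7, 8), (7, 10), (7, 34), (7, 32), (5, 3), (5, 88), (6, 58), (6, 17), (6, 101),
  (6, 53), (6, 99), (6, 51), (6, 98), (6, 102), (6, 24), (6, 28), (6, 54), (6, 78), (6, 74), (6, 50), (1, 92),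
  (3, 118), (4, 114), (6, 125), (3, 116), (1, 24), (6, 127), (4, 112), (6, 66), (5, 127), (5, 32), (6, 111), (6, 52),
  (6, 48), (6, 76), (6, 72), (3, 3), (4, 39), (1, 39), (6, 36), (6, 38), (3, 0), (4, 65), (1, 63), (4, 62),
  (3, 32), (1, 72), (6, 47), (6, 49), (6, 97), (6, 55), (6, 103), (5, 40), (5, 67), (6, 65), (6, 110), (5, 33),
  (5, 112), (6, 59), (6, 18), (6, 62), (6, 21), (5, 24), (5, 9), (1, 38), (4, 24), (6, 7), (3, 10), (5, 34),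
  (6, 109), (5, 111), (6, 64), (4, 13), (3, 40), (6, 14), (1, 13), (5, 8), (5, 91), (6, 69), (6, 106), (4, 27),
  (1, 67), (3, 121), (6, 94), (1, 114), (3, 91), (6, 83), (4, 64), (1, 91), (4, 91), (3, 127), (6, 88), (5, 41),
  (5, 48), (6, 63), (6, 22), (6, 118), (1, 97), (4, 17), (3, 80), (1, 115), (4, 115), (3, 86), (6, 112), (3, 106),
  (3, 104), (3, 67), (3, 64), (6, 70), (5, 115), (6, 107), (5, 0), (4, 25), (1, 65), (3, 123), (6, 92), (6, 77),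
  (6, 25), (6, 75), (6, 31), (6, 108), (6, 67), (5, 65), (5, 42), (3, 56), (3, 22), (3, 21), (3, 59), (6, 20),
  (6, 61), (5, 82), (5, 43), (6, 96), (6, 26), (6, 30), (6, 100), (5, 94), (5, 11), (6, 60), (6, 23), (6, 90),
  (4, 89), (1, 87), (3, 125), (4, 19), (1, 111), (3, 82), (6, 116), (1, 90), (6, 123), (4, 96), (3, 113), (3, 88),
  (4, 92), (1, 112), (6, 81), (3, 18), (3, 61), (3, 63), (3, 17), (4, 90), (1, 48), (3, 94), (6, 87), (6, 85),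
  (4, 86), (1, 16), (3, 92), (5, 114), (6, 16), (6, 57), (5, 35), (5, 83), (6, 71), (6, 104), (5, 10), (3, 43),
  (1, 25), (4, 73), (6, 12), (7, 43), (7, 1), (7, 3), (7, 41), (3, 114), (1, 88), (4, 110), (6, 121), (6, 79),
  (6, 73), (6, 27), (6, 29), (3, 84), (6, 114), (1, 113), (4, 113), (6, 19), (5, 1), (6, 56), (5, 90), (3, 69),
  (3, 108), (3, 111), (3, 71)]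

/-- base points -/
def bp : List ℕ := [0, 1, 2]

/-- the numbers of the orbits of `S` on the 100 points, 4 bits for each point -/
def orbN : ℕ := 0x3115122210125111131121411121111153122111114311114151113121423111111121311211112221130211111110111110

/-- the index of `w s w⁻¹` -/
def wS : List ℕ := [
  0, 43, 2, 41, 4, 47, 6, 45, 24, 51, 26, 49, 28, 55, 30, 53,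
  14, 37, 12, 39, 10, 33, 8, 35, 22, 61, 20, 63, 18, 57, 16, 59,
  68, 107, 70, 105, 64, 111, 66, 109, 92, 115, 94, 113, 88, 119, 90, 117,
  74, 101, 72, 103, 78, 97, 76, 99, 82, 125, 80, 127, 86, 121, 84, 123,
  98, 79, 96, 77, 102, 75, 100, 73, 122, 87, 120, 85, 126, 83, 124, 81,
  108, 65, 110, 67, 104, 69, 106, 71, 116, 89, 118, 91, 112, 93, 114, 95,
  38, 15, 36, 13, 34, 11, 32, 9, 62, 23, 60, 21, 58, 19, 56, 17,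
  40, 1, 42, 3, 44, 5, 46, 7, 48, 25, 50, 27, 52, 29, 54, 31]

/-- `(e, k)` with `e < 3`: `c j = w ^ e * s k`; `(3 + k, p)`: `c j * s k * (c j)⁻¹` does not fix the orbit of the point `p` -/
def nI : List (ℕ × ℕ) := [
  (0, 0), (35, 12), (35, 0), (35, 0), (35, 14), (1, 0), (2, 0), (35, 0),
  (35, 0), (35, 0), (35, 0), (35, 0), (35, 0), (35, 0), (35, 0)]

/-- a point which distinguishes the cosets `c i S` and `c j S` -/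
def ppt : List (List ℕ) := [
  [0, 14, 0, 0, 12, 0, 0, 0, 0, 0, 0, 0, 0, 0, 0],
  [14, 0, 0, 0, 12, 0, 0, 0, 0, 0, 0, 0, 0, 0, 0],
  [0, 0, 0, 0, 0, 0, 12, 12, 0, 0, 0, 0, 0, 0, 0],
  [0, 0, 0, 0, 0, 14, 0, 0, 0, 0, 0, 0, 0, 12, 0],
  [12, 12, 0, 0, 0, 0, 0, 0, 0, 0, 0, 0, 0, 0, 0],
  [0, 0, 0, 14, 0, 0, 0, 0, 0, 0, 0, 0, 0, 12, 0],
  [0, 0, 12, 0, 0, 0, 0, 14, 0, 0, 0, 0, 0, 0, 0],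
  [0, 0, 12, 0, 0, 0, 14, 0, 0, 0, 0, 0, 0, 0, 0],
  [0, 0, 0, 0, 0, 0, 0, 0, 0, 1, 15, 15, 1, 0, 1],
  [0, 0, 0, 0, 0, 0, 0, 0, 1, 0, 1, 1, 15, 0, 15],
  [0, 0, 0, 0, 0, 0, 0, 0, 15, 1, 0, 15, 1, 0, 1],
  [0, 0, 0, 0, 0, 0, 0, 0, 15, 1, 15, 0, 1, 0, 1],
  [0, 0, 0, 0, 0, 0, 0, 0, 1, 15, 1, 1, 0, 0, 15],
  [0, 0, 0, 12, 0, 12, 0, 0, 0, 0, 0, 0, 0, 0, 0],
  [0, 0, 0, 0, 0, 0, 0, 0, 1, 15, 1, 1, 15, 0, 0]]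

/-- the certificates for `r t * c j`, at the place `15 * t + j` -/
def ct : List (ℕ × List ℕ) := [
  (0, [0, 0]), (1, [64, 17, 53]), (1, [32, 64, 58]),
  (2, [32, 17, 84]), (2, [64, 17, 80]), (0, [0, 0]),
  (0, [0, 0]), (1, [32, 64, 87]), (2, [0, 17, 55]),
  (1, [64, 17, 11]), (1, [64, 17, 102]), (1, [0, 64, 14]),
  (2, [32, 64, 44]), (2, [0, 64, 16]), (1, [32, 17, 108]),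
  (1, [64, 75, 31]), (0, [0, 0]), (2, [41, 17, 59]),
  (0, [0, 0]), (2, [96, 105, 1]), (2, [9, 103, 9]),
  (1, [9, 51, 9]), (0, [0, 0]), (2, [96, 24, 31]),
  (2, [3, 18, 106]), (1, [42, 28, 78]), (2, [10, 27, 114]),
  (1, [0, 110, 34]), (2, [17, 10, 0]), (2, [65, 74, 43]),
  (0, [121, 81]), (0, [80, 51]), (0, [32, 121]),
  (0, [80, 9]), (0, [32, 121]), (0, [121, 79]),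
  (0, [121, 65]), (0, [80, 103]), (0, [12, 109]),
  (1, [42, 94, 48, 42, 94, 66, 42, 94, 120]), (0, [12, 39]), (0, [12, 27]),
  (1, [80, 48, 13, 80, 48, 77, 80, 48, 15]), (0, [32, 101]), (2, [88, 91, 35, 88, 91, 42, 88, 91, 9]),
  (1, [94, 116, 72]), (1, [123, 12, 25]), (1, [77, 104, 37]),
  (2, [92, 116, 84]), (2, [74, 121, 41]), (1, [53, 0, 58]),
  (2, [0, 17, 106]), (2, [78, 17, 68]), (2, [65, 40, 35, 18]),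
  (0, [14, 70]), (1, [12, 32, 18, 86]), (2, [43, 9, 63, 59]),
  (0, [14, 30]), (1, [97, 22, 1]), (0, [14, 104]),
  (2, [16, 53, 43]), (1, [62, 27, 23]), (0, [42, 104]),
  (1, [1, 53, 113]), (0, [42, 62]), (1, [35, 75, 23]),
  (1, [54, 9, 113]), (2, [1, 75, 43]), (2, [74, 9, 70]),
  (1, [1, 111, 87]), (2, [42, 18, 127]), (1, [64, 20, 36]),
  (2, [25, 73, 113]), (0, [42, 30]), (2, [41, 72, 48]),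
  (0, [42, 78]), (1, [32, 82, 20]), (1, [9, 85, 121]),
  (1, [43, 99, 71]), (2, [0, 94, 40]), (0, [42, 52]),
  (0, [42, 124]), (2, [40, 24, 100]), (2, [17, 61, 53]),
  (2, [34, 126, 72]), (2, [43, 25, 15]), (2, [65, 49, 101]),
  (1, [87, 57, 43]), (2, [40, 2, 2]), (2, [2, 120, 106]),
  (0, [82, 84]), (2, [53, 61, 89]), (1, [40, 65, 111]),
  (2, [8, 102, 116]), (1, [67, 97, 75]), (0, [82, 62]),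
  (0, [82, 104]), (1, [49, 81, 91]), (2, [63, 43, 89]),
  (1, [42, 90, 20]), (2, [42, 71, 49]), (1, [17, 115, 37]),
  (1, [40, 24, 22]), (2, [106, 42, 28]), (2, [9, 93, 115]),
  (2, [32, 10, 12]), (0, [42, 92]), (0, [16, 16]),
  (0, [42, 40]), (0, [16, 112]), (1, [0, 8, 30]),
  (2, [32, 0, 94]), (0, [42, 112]), (0, [120, 62]),
  (0, [64, 37]), (0, [120, 104]), (0, [120, 40]),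
  (0, [64, 101]), (0, [16, 112]), (0, [64, 91]),
  (2, [17, 92, 24, 17, 92, 10, 17, 92, 120]), (1, [2, 24, 17, 2, 24, 80, 2, 24, 78]), (1, [114, 80, 43, 114, 80, 52, 114, 80, 109]),
  (2, [13, 32, 3, 13, 32, 97, 13, 32, 49]), (1, [38, 93, 90, 38, 93, 62, 38, 93, 2]), (2, [8, 53, 10, 8, 53, 94, 8, 53, 98]),
  (1, [49, 39, 53, 49, 39, 9, 49, 39, 103]), (2, [52, 93, 111, 52, 93, 9, 52, 93, 41]), (2, [77, 43, 19, 77, 43, 8, 77, 43, 43]),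
  (0, [0, 34]), (1, [32, 42, 17, 32, 42, 13, 32, 42, 63]), (2, [111, 27, 65, 111, 27, 33, 111, 27, 83]),
  (0, [0, 62]), (1, [39, 3, 9, 39, 3, 27, 39, 3, 115]), (0, [0, 112])]

end Cfsg.Agent.H29.PJ.Data
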